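import Mathlib

/-!
# Subgroup objects of group objects in cartesian monoidal categories (helper5)
-/

set_option autoImplicit false

open CategoryTheory MonoidalCategory CartesianMonoidalCategory MonObj GrpObj

namespace Groth.Agent.H5.GrpLim

universe v u v' u'

variable {C : Type u} [Category.{v} C] [CartesianMonoidalCategory C]

/-- `φ` factors through `j`. -/
def Factors {H G T : C} (j : H ⟶ G) (φ : T ⟶ G) : Prop := ∃ h : T ⟶ H, h ≫ j = φ

lemma Factors.precomp {H G T T' : C} {j : H ⟶ G} {φ : T ⟶ G} (h : Factors j φ) (ψ : T' ⟶ T) :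
    Factors j (ψ ≫ φ) := by
  obtain ⟨k, hk⟩ := h
  exact ⟨ψ ≫ k, by rw [Category.assoc, hk]⟩

lemma factors_precomp_iso_iff {H G T T' : C} {j : H ⟶ G} {φ : T ⟶ G} (ψ : T' ⟶ T) [IsIso ψ] :
    Factors j (ψ ≫ φ) ↔ Factors j φ := by
  refine ⟨fun h => ?_, fun h => h.precomp ψ⟩
  have := h.precomp (inv ψ)
  rwa [IsIso.inv_hom_id_assoc] at this

section Sub

variable {G H : C} [GrpObj G] (j : H ⟶ G) [Mono j]

/-- The monoid structure on a subobject closed under the operations. -/
@[reducible]
def monObjOfMono (e : 𝟙_ C ⟶ H) (he : e ≫ j = η[G]) (m : H ⊗ H ⟶ H)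
    (hm : m ≫ j = (fst H H ≫ j) * (snd H H ≫ j)) : MonObj H where
  one := e
  mul := m
  one_mul := by
    rw [← cancel_mono j, Category.assoc, hm, MonObj.comp_mul, whiskerRight_fst_assoc,
      whiskerRight_snd_assoc, he, leftUnitor_hom]
    have h1 : fst (𝟙_ C) H ≫ η[G] = 1 := by
      rw [Hom.one_def]
      congr 1
      exact toUnit_unique _ _
    rw [h1, _root_.one_mul]
  mul_one := by
    rw [← cancel_mono j, Category.assoc, hm, MonObj.comp_mul, whiskerLeft_fst_assoc,
      whiskerLeft_snd_assoc, he, rightUnitor_hom]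
    have h1 : snd H (𝟙_ C) ≫ η[G] = 1 := by
      rw [Hom.one_def]
      congr 1
      exact toUnit_unique _ _
    rw [h1, _root_.mul_one]
  mul_assoc := by
    rw [← cancel_mono j]
    simp only [Category.assoc, hm, MonObj.comp_mul, whiskerRight_fst_assoc,
      whiskerRight_snd_assoc, whiskerLeft_fst_assoc, whiskerLeft_snd_assoc,
      associator_hom_fst_assoc, associator_hom_snd_fst_assoc, associator_hom_snd_snd_assoc,
      _root_.mul_assoc]

/-- A subobject of a group object closed under the operations is a group object, and the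
inclusion is a homomorphism. -/
theorem exists_grpObj_of_mono (e : 𝟙_ C ⟶ H) (he : e ≫ j = η[G]) (m : H ⊗ H ⟶ H)
    (hm : m ≫ j = (fst H H ≫ j) * (snd H H ≫ j)) (v : H ⟶ H) (hv : v ≫ j = j⁻¹) :
    ∃ _ : GrpObj H, IsMonHom j := by
  letI : MonObj H := monObjOfMono j e he m hm
  have hone : (η[H] : 𝟙_ C ⟶ H) = e := rfl
  have hmul : (μ[H] : H ⊗ H ⟶ H) = m := rfl
  let grp : GrpObj H :=
    { inv := v
      left_inv := by
        rw [← cancel_mono j, Category.assoc, hmul, hm, MonObj.comp_mul, lift_fst_assoc,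
          lift_snd_assoc, hv, Category.id_comp, inv_mul_cancel, Category.assoc, hone, he]
        rfl
      right_inv := by
        rw [← cancel_mono j, Category.assoc, hmul, hm, MonObj.comp_mul, lift_fst_assoc,
          lift_snd_assoc, hv, Category.id_comp, mul_inv_cancel, Category.assoc, hone, he]
        rfl }
  refine ⟨grp, ⟨he, ?_⟩⟩
  change m ≫ j = (j ⊗ₘ j) ≫ μ[G]
  rw [hm, MonObj.mul_eq_mul, MonObj.comp_mul, tensorHom_fst, tensorHom_snd]

end Sub

end Groth.Agent.H5.GrpLim
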