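import Mathlib
import Groth.Agent.Lib.Helper5.GrpLim.GrpA

/-!
# Subgroup objects and monoidal functors (helper5)
-/

set_option autoImplicit false

open CategoryTheory MonoidalCategory CartesianMonoidalCategory MonObj GrpObj
open scoped Obj

namespace Groth.Agent.H5.GrpLim

universe v u v' u'

variable {C : Type u} [Category.{v} C] [CartesianMonoidalCategory C]
variable {C' : Type u'} [Category.{v'} C'] [CartesianMonoidalCategory C']

section Defs

variable {G₀ H₀ : C} [GrpObj G₀] (j₀ : H₀ ⟶ G₀)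

/-- the product of two points of `H₀`, in `G₀` -/
def phiMul : H₀ ⊗ H₀ ⟶ G₀ := (fst H₀ H₀ ≫ j₀) * (snd H₀ H₀ ≫ j₀)

/-- the inverse of a point of `H₀`, in `G₀` -/
def phiInv : H₀ ⟶ G₀ := j₀⁻¹

/-- the conjugate of a point of `H₀` by a point of `G₀` -/
def phiConj : G₀ ⊗ H₀ ⟶ G₀ := fst G₀ H₀ * (snd G₀ H₀ ≫ j₀) * (fst G₀ H₀)⁻¹

variable (F : C ⥤ C') [F.Monoidal]

/-- the closure conditions for `F.map j₀` to be a subgroup object -/
def Good : Prop :=
  Factors (F.map j₀) (F.map η[G₀]) ∧ Factors (F.map j₀) (F.map (phiMul j₀)) ∧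
    Factors (F.map j₀) (F.map (phiInv j₀))

/-- the closure condition for normality -/
def GoodN : Prop := Factors (F.map j₀) (F.map (phiConj j₀))

end Defs

/-- normality of a morphism into a group object, in terms of points -/
def NormalCond {N G : C'} [GrpObj G] (i : N ⟶ G) : Prop :=
  ∀ (T : C') (g : T ⟶ G) (n : T ⟶ N), ∃ n' : T ⟶ N, g * (n ≫ i) * g⁻¹ = n' ≫ i

variable {G₀ H₀ : C} [GrpObj G₀] (j₀ : H₀ ⟶ G₀) (F : C ⥤ C') [F.Monoidal]

theorem good_of_grpObj (h : ∃ _ : GrpObj (F.obj H₀), IsMonHom (F.map j₀)) : Good j₀ F := by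
  obtain ⟨inst, hmon⟩ := h
  refine ⟨⟨Functor.OplaxMonoidal.η F ≫ η[F.obj H₀], ?_⟩, ⟨F.map (fst H₀ H₀) * F.map (snd H₀ H₀), ?_⟩,
    ⟨(𝟙 (F.obj H₀))⁻¹, ?_⟩⟩
  · rw [Category.assoc, IsMonHom.one_hom, Functor.obj.η_def, Functor.Monoidal.η_ε_assoc]
  · rw [MonObj.mul_comp, phiMul, Functor.map_mul, Functor.map_comp, Functor.map_comp]
  · rw [GrpObj.inv_comp, Category.id_comp, phiInv, Functor.map_inv']

theorem goodN_of_normalCond (h : NormalCond (F.map j₀)) : GoodN j₀ F := by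
  obtain ⟨n', hn'⟩ := h (F.obj (G₀ ⊗ H₀)) (F.map (fst G₀ H₀)) (F.map (snd G₀ H₀))
  refine ⟨n', ?_⟩
  rw [← hn', phiConj, Functor.map_mul, Functor.map_mul, Functor.map_inv', Functor.map_comp]

theorem exists_grpObj_of_good [Mono (F.map j₀)] (h : Good j₀ F) :
    ∃ _ : GrpObj (F.obj H₀), IsMonHom (F.map j₀) := by
  obtain ⟨⟨h₁, hh₁⟩, ⟨h₂, hh₂⟩, ⟨h₃, hh₃⟩⟩ := h
  refine exists_grpObj_of_mono (F.map j₀) (Functor.LaxMonoidal.ε F ≫ h₁) ?_
    (Functor.LaxMonoidal.μ F H₀ H₀ ≫ h₂) ?_ h₃ ?_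
  · rw [Category.assoc, hh₁, Functor.obj.η_def]
  · rw [Category.assoc, hh₂, phiMul, Functor.map_mul, Functor.map_comp, Functor.map_comp,
      MonObj.comp_mul, Functor.Monoidal.μ_fst_assoc, Functor.Monoidal.μ_snd_assoc]
  · rw [hh₃, phiInv, Functor.map_inv']

theorem normalCond_of_goodN (h : GoodN j₀ F) : NormalCond (F.map j₀) := by
  obtain ⟨h₄, hh₄⟩ := h
  intro T g n
  refine ⟨lift g n ≫ Functor.LaxMonoidal.μ F G₀ H₀ ≫ h₄, ?_⟩
  rw [Category.assoc, Category.assoc, hh₄, phiConj, Functor.map_mul, Functor.map_mul,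
    Functor.map_inv', Functor.map_comp, MonObj.comp_mul, MonObj.comp_mul, MonObj.comp_mul,
    MonObj.comp_mul, GrpObj.comp_inv, GrpObj.comp_inv, Functor.Monoidal.μ_fst,
    Functor.Monoidal.μ_snd_assoc, lift_fst, lift_snd_assoc]

end Groth.Agent.H5.GrpLim
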