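import Mathlib
import Groth.Agent.Lib.Helper5.GrpLim.GrpA
import Groth.Agent.Lib.Helper5.Lim.DescendIso

/-!
# Factorisation through a monomorphism after base change, and its descent along limits (helper5)
-/

set_option autoImplicit false

open CategoryTheory Limits AlgebraicGeometry MorphismProperty

namespace Groth.Agent.H5.GrpLim

universe u

section Crit

variable {S₀ S' : Scheme.{u}} (f : S' ⟶ S₀) {T₀ H₀ G₀ : Over S₀} (j₀ : H₀ ⟶ G₀) (φ₀ : T₀ ⟶ G₀)

theorem factors_iff_section :
    Factors ((Over.pullback f).map j₀) ((Over.pullback f).map φ₀) ↔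
      ∃ s : pullback T₀.hom f ⟶
          pullback (pullback.snd j₀.left φ₀.left) (pullback.fst T₀.hom f),
        s ≫ pullback.snd (pullback.snd j₀.left φ₀.left) (pullback.fst T₀.hom f) = 𝟙 _ := by
  constructor
  · rintro ⟨h, hh⟩
    have hL : h.left ≫ ((Over.pullback f).map j₀).left = ((Over.pullback f).map φ₀).left := by
      rw [← Over.comp_left, hh]
    have hu : (h.left ≫ pullback.fst H₀.hom f) ≫ j₀.left = pullback.fst T₀.hom f ≫ φ₀.left := by
      have h1 := congrArg (fun k => k ≫ pullback.fst G₀.hom f) hL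
      simp only [CategoryTheory.Over.pullback_map_left, Category.assoc, pullback.lift_fst] at h1
      rw [Category.assoc]
      exact h1
    refine ⟨pullback.lift (pullback.lift (h.left ≫ pullback.fst H₀.hom f)
      (pullback.fst T₀.hom f) hu) (𝟙 _) (by rw [pullback.lift_snd, Category.id_comp]), ?_⟩
    rw [pullback.lift_snd]
  · rintro ⟨s, hs⟩
    have hu : (s ≫ pullback.fst (pullback.snd j₀.left φ₀.left) (pullback.fst T₀.hom f) ≫
        pullback.fst j₀.left φ₀.left) ≫ j₀.left = pullback.fst T₀.hom f ≫ φ₀.left := by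
      rw [Category.assoc, Category.assoc, pullback.condition, pullback.condition_assoc,
        reassoc_of% hs]
    have hcond : (s ≫ pullback.fst (pullback.snd j₀.left φ₀.left) (pullback.fst T₀.hom f) ≫
        pullback.fst j₀.left φ₀.left) ≫ H₀.hom = pullback.snd T₀.hom f ≫ f := by
      rw [← Over.w j₀, ← Category.assoc, hu, Category.assoc, Over.w φ₀, pullback.condition]
    refine ⟨Over.homMk (pullback.lift _ (pullback.snd T₀.hom f) hcond) ?_, ?_⟩
    · simp only [CategoryTheory.Over.pullback_obj_hom, CategoryTheory.Over.mk_hom, pullback.lift_snd]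
    · ext : 1
      simp only [Over.comp_left, Over.homMk_left, CategoryTheory.Over.pullback_map_left]
      apply pullback.hom_ext
      · simp only [Category.assoc, pullback.lift_fst, pullback.lift_fst_assoc]
        exact hu
      · simp only [Category.assoc, pullback.lift_snd]

theorem factors_iff_isIso [Mono j₀.left] :
    Factors ((Over.pullback f).map j₀) ((Over.pullback f).map φ₀) ↔
      isomorphisms Scheme.{u}
        (pullback.snd (pullback.snd j₀.left φ₀.left) (pullback.fst T₀.hom f)) := by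
  rw [factors_iff_section]
  constructor
  · rintro ⟨s, hs⟩
    haveI : IsSplitEpi
        (pullback.snd (pullback.snd j₀.left φ₀.left) (pullback.fst T₀.hom f)) := ⟨⟨s, hs⟩⟩
    exact isIso_of_mono_of_isSplitEpi _
  · intro h
    haveI : IsIso (pullback.snd (pullback.snd j₀.left φ₀.left) (pullback.fst T₀.hom f)) := h
    exact ⟨inv _, IsIso.inv_hom_id _⟩

end Crit

section Descend

variable {I : Type u} [SmallCategory I] [IsCofiltered I] (D : I ⥤ Scheme.{u}) (c : Cone D)
  (hc : IsLimit c) [∀ (i j : I) (a : i ⟶ j), IsAffineHom (D.map a)] (i₀ : I)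
  [CompactSpace (D.obj i₀)]

include hc in
/-- descent of a property of base changes of `h : Z ⟶ T'`, for `T'` over a stage. -/
theorem exists_bc_over {P Φ : MorphismProperty Scheme.{u}} [IsZariskiLocalAtTarget P]
    [P.IsStableUnderBaseChange] [Φ.IsStableUnderBaseChange] (H : Lim.AffineSystemDescent P Φ)
    {T' Z : Scheme.{u}} (τ : T' ⟶ D.obj i₀) [QuasiCompact τ] (h : Z ⟶ T') (hΦ : Φ h)
    (hP : P (pullback.snd h (pullback.fst τ (c.π.app i₀)))) :
    ∃ k : Over i₀, ∀ (k' : Over i₀) (_ : k' ⟶ k),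
      P (pullback.snd h (pullback.fst τ (D.map k'.hom))) := by
  haveI : CompactSpace T' := QuasiCompact.compactSpace_of_compactSpace τ
  let j₁ : Over i₀ := Over.mk (𝟙 i₀)
  haveI : ∀ (j k : Over i₀) (φ : j ⟶ k), IsAffineHom ((Lim.bcDiagram D τ).map φ) := fun j k φ =>
    Lim.isAffineHom_bcMap D τ φ inferInstance
  haveI : CompactSpace ((Lim.bcDiagram D τ).obj j₁) :=
    Lim.compactSpace_bcDiagram_obj D τ j₁ inferInstance
  have h1 : P (pullback.snd (pullback.snd h (pullback.fst τ (D.map j₁.hom)))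
      ((Lim.bcCone D c τ).π.app j₁)) := by
    rw [← Lim.bc_comp_iff (P := P)]
    have e : (Lim.bcCone D c τ).π.app j₁ ≫ pullback.fst τ (D.map j₁.hom) =
        pullback.fst τ (c.π.app i₀) := Lim.bcProj_fst D c τ j₁
    exact (Lim.bc_congr (P := P) h e).mpr hP
  obtain ⟨k, φ, hk⟩ := Lim.exists_bc_of_affineSystemDescent (Lim.bcDiagram D τ) (Lim.bcCone D c τ)
    (Lim.isLimitBcCone D c τ hc) H j₁ (pullback.snd h (pullback.fst τ (D.map j₁.hom)))
    (Φ.pullback_snd _ _ hΦ) h1
  have hk' : P (pullback.snd h ((Lim.bcDiagram D τ).map φ ≫ pullback.fst τ (D.map j₁.hom))) :=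
    (Lim.bc_comp_iff (P := P) h (pullback.fst τ (D.map j₁.hom)) ((Lim.bcDiagram D τ).map φ)).mpr hk
  refine ⟨k, fun k' ψ => ?_⟩
  have e : pullback.fst τ (D.map k'.hom) =
      (Lim.bcDiagram D τ).map ψ ≫ (Lim.bcDiagram D τ).map φ ≫ pullback.fst τ (D.map j₁.hom) := by
    change _ = Lim.bcMap D τ ψ ≫ Lim.bcMap D τ φ ≫ _
    rw [Lim.bcMap_fst, Lim.bcMap_fst]
  exact (Lim.bc_congr (P := P) h e).mpr (Lim.bc_of_comp h _ _ hk')

end Descend

end Groth.Agent.H5.GrpLim
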