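import Mathlib
import Groth.Agent.Lib.Helper5.GrpLim.GrpB
import Groth.Agent.Lib.Helper5.GrpLim.GrpC
import Groth.Prelude.Def_AlgGrp
import Groth.Prelude.Def_Red

/-!
# Closed subgroup schemes over a limit descend to a stage (helper5)
-/

set_option autoImplicit false

open CategoryTheory Limits AlgebraicGeometry MonoidalCategory CartesianMonoidalCategory MonObj GrpObj
open scoped Obj

namespace Groth.Agent.H5.GrpLim

universe u

variable {I : Type u} [SmallCategory I] [IsCofiltered I] (D : I ⥤ Scheme.{u}) (c : Cone D)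
  (hc : IsLimit c) [∀ (i j : I) (a : i ⟶ j), IsAffineHom (D.map a)] (i₀ : I)
  [CompactSpace (D.obj i₀)]
  {G₀ H₀ : Over (D.obj i₀)} (ι₀ : H₀ ⟶ G₀) [IsClosedImmersion ι₀.left]
  [LocallyOfFinitePresentation ι₀.left]

include hc in
/-- Factorisation through a finitely presented closed subscheme descends to a stage. -/
theorem factors_descend {T₀ : Over (D.obj i₀)} (φ₀ : T₀ ⟶ G₀) [QuasiCompact T₀.hom]
    (h : Factors ((Over.pullback (c.π.app i₀)).map ι₀) ((Over.pullback (c.π.app i₀)).map φ₀)) :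
    ∃ k : Over i₀, ∀ (k' : Over i₀) (_ : k' ⟶ k),
      Factors ((Over.pullback (D.map k'.hom)).map ι₀) ((Over.pullback (D.map k'.hom)).map φ₀) := by
  rw [factors_iff_isIso] at h
  have hΦ : (@LocallyOfFinitePresentation ⊓ (@QuasiCompact ⊓ @QuasiSeparated) :
      MorphismProperty Scheme.{u}) (pullback.snd ι₀.left φ₀.left) :=
    ⟨inferInstance, inferInstance, inferInstance⟩
  obtain ⟨k, hk⟩ := exists_bc_over D c hc i₀ Lim.affineSystemDescent_isomorphisms T₀.hom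
    (pullback.snd ι₀.left φ₀.left) hΦ h
  refine ⟨k, fun k' ψ => ?_⟩
  rw [factors_iff_isIso]
  exact hk k' ψ


section Main

variable [GrpObj G₀] [QuasiCompact G₀.hom]

omit [IsClosedImmersion ι₀.left] [LocallyOfFinitePresentation ι₀.left] in
lemma mono_pullback_map {S' : Scheme.{u}} (f : S' ⟶ D.obj i₀) [Mono ι₀.left] :
    Mono ((Over.pullback f).map ι₀) := by
  haveI : Mono ι₀ := Over.mono_of_mono_left ι₀
  infer_instance

include hc in
theorem good_descend (h : Good ι₀ (Over.pullback (c.π.app i₀))) :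
    ∃ k : Over i₀, ∀ (k' : Over i₀) (_ : k' ⟶ k), Good ι₀ (Over.pullback (D.map k'.hom)) := by
  haveI hH : QuasiCompact H₀.hom := by
    rw [← Over.w ι₀]; infer_instance
  haveI : QuasiCompact (𝟙_ (Over (D.obj i₀))).hom := by
    change QuasiCompact (𝟙 (D.obj i₀)); infer_instance
  haveI : QuasiCompact (H₀ ⊗ H₀).hom := by
    change QuasiCompact (pullback.fst H₀.hom H₀.hom ≫ H₀.hom); infer_instance
  obtain ⟨h1, h2, h3⟩ := h
  obtain ⟨k₁, hk₁⟩ := factors_descend D c hc i₀ ι₀ η[G₀] h1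
  obtain ⟨k₂, hk₂⟩ := factors_descend D c hc i₀ ι₀ (phiMul ι₀) h2
  obtain ⟨k₃, hk₃⟩ := factors_descend D c hc i₀ ι₀ (phiInv ι₀) h3
  obtain ⟨k, a₁, a₂, a₃⟩ : ∃ k : Over i₀, Nonempty (k ⟶ k₁) ∧ Nonempty (k ⟶ k₂) ∧
      Nonempty (k ⟶ k₃) := by
    let k₁₂ := IsCofiltered.min k₁ k₂
    refine ⟨IsCofiltered.min k₁₂ k₃,
      ⟨IsCofiltered.minToLeft k₁₂ k₃ ≫ IsCofiltered.minToLeft k₁ k₂⟩,
      ⟨IsCofiltered.minToLeft k₁₂ k₃ ≫ IsCofiltered.minToRight k₁ k₂⟩,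
      ⟨IsCofiltered.minToRight k₁₂ k₃⟩⟩
  obtain ⟨a₁⟩ := a₁
  obtain ⟨a₂⟩ := a₂
  obtain ⟨a₃⟩ := a₃
  exact ⟨k, fun k' ψ => ⟨hk₁ k' (ψ ≫ a₁), hk₂ k' (ψ ≫ a₂), hk₃ k' (ψ ≫ a₃)⟩⟩

include hc in
theorem goodN_descend (h : GoodN ι₀ (Over.pullback (c.π.app i₀))) :
    ∃ k : Over i₀, ∀ (k' : Over i₀) (_ : k' ⟶ k), GoodN ι₀ (Over.pullback (D.map k'.hom)) := by
  haveI hH : QuasiCompact H₀.hom := by
    rw [← Over.w ι₀]; infer_instance
  haveI : QuasiCompact (G₀ ⊗ H₀).hom := by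
    change QuasiCompact (pullback.fst G₀.hom H₀.hom ≫ G₀.hom); infer_instance
  exact factors_descend D c hc i₀ ι₀ (phiConj ι₀) h

include hc in
/-- Closed subgroup schemes over a limit are defined over a stage. -/
theorem main
    (hH : ∃ _ : GrpObj (Red.bc (c.π.app i₀) H₀), IsMonHom ((Over.pullback (c.π.app i₀)).map ι₀)) :
    (∃ (i : I) (a : i ⟶ i₀) (_ : GrpObj (Red.bc (D.map a) H₀)),
        IsMonHom ((Over.pullback (D.map a)).map ι₀)) ∧
    ((∃ (_ : GrpObj (Red.bc (c.π.app i₀) H₀)) (_ : IsMonHom ((Over.pullback (c.π.app i₀)).map ι₀)),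
        AlgGrp.IsNormalHom ((Over.pullback (c.π.app i₀)).map ι₀)) →
      ∃ (i : I) (a : i ⟶ i₀) (_ : GrpObj (Red.bc (D.map a) H₀))
        (_ : IsMonHom ((Over.pullback (D.map a)).map ι₀)),
        AlgGrp.IsNormalHom ((Over.pullback (D.map a)).map ι₀)) := by
  have hgood : Good ι₀ (Over.pullback (c.π.app i₀)) := good_of_grpObj ι₀ _ hH
  obtain ⟨k, hk⟩ := good_descend D c hc i₀ ι₀ hgood
  refine ⟨?_, ?_⟩
  · haveI := mono_pullback_map D i₀ ι₀ (D.map k.hom)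
    obtain ⟨inst, hmon⟩ := exists_grpObj_of_good ι₀ (Over.pullback (D.map k.hom)) (hk k (𝟙 k))
    exact ⟨k.left, k.hom, inst, hmon⟩
  · rintro ⟨inst, hmon, hnorm⟩
    have hN : GoodN ι₀ (Over.pullback (c.π.app i₀)) := goodN_of_normalCond ι₀ _ hnorm
    obtain ⟨k', hk'⟩ := goodN_descend D c hc i₀ ι₀ hN
    let m := IsCofiltered.min k k'
    haveI := mono_pullback_map D i₀ ι₀ (D.map m.hom)
    obtain ⟨inst', hmon'⟩ := exists_grpObj_of_good ι₀ (Over.pullback (D.map m.hom))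
      (hk m (IsCofiltered.minToLeft k k'))
    exact ⟨m.left, m.hom, inst', hmon',
      normalCond_of_goodN ι₀ _ (hk' m (IsCofiltered.minToRight k k'))⟩

end Main

end Groth.Agent.H5.GrpLim
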